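import Cfsg.Agent.Lib.Sporadic.HNRep.Hom
import Cfsg.Agent.Lib.Sporadic.HNCoset.Facts

set_option autoImplicit false
set_option maxRecDepth 20000
set_option Elab.async false

/-! Words that differ in the representation (owner: helper9). -/

namespace CfsgLib.Sporadic.HNOut

open CfsgLib.Sporadic.HNRep (evalWord mask mats idEnc)

theorem rep_commute_check : ∀ k < 8, evalWord mask mats (HNCoset.W (k + 1) ++ [0, 0]) ≠
    evalWord mask mats ([0, 0] ++ HNCoset.W (k + 1)) := by decide +kernel

theorem rep_two_check : evalWord mask mats [4, 6, 6, 4, 6, 6, 4, 6, 6] ≠ idEnc := by decide +kernel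

theorem rep_three_check : evalWord mask mats [4, 6, 6, 6, 4, 6, 6, 6, 4, 6, 6, 6] ≠ idEnc := by decide +kernel

end CfsgLib.Sporadic.HNOut
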