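import Cfsg.Agent.Lib.Sporadic.HNCoset.Bound
import Cfsg.Agent.Lib.Sporadic.HNOut.RepChecks

/-!
# The centraliser of the central involution of the double cover (owner: helper9)
-/

set_option autoImplicit false
set_option maxRecDepth 20000

namespace CfsgLib.Sporadic.HNOut

open Cfsg CfsgLib.Sporadic CfsgLib.Sporadic.HNGroup
open CfsgLib.Sporadic.HNRep (rho rho_of unit code evalWord mask mats mat)
open CfsgLib.Sporadic.HNCoset (N0 W gl ev)

/-- The small group embeds. -/
theorem toHN_injective : Function.Injective toHN := by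
  refine (injective_iff_map_eq_one toHN).2 fun g hg => ?_
  rcases Q_cases g with h | h
  · exact toHN_injOn h hg
  · exact absurd ⟨g * L 4, h, by rw [map_mul, hg, one_mul]⟩ z_image_not_mem

theorem rho_inv_of (g : Spor.HN.Gen) : (rho (PresentedGroup.of g))⁻¹ = unit (code (g, false)) := by
  rw [rho_of, HNRep.code_false, HNRep.unit_inv (HNRep.code_lt _)]

theorem rho_gl {k : ℕ} (hk : k < 8) : rho (gl k) = unit k := by
  have hn : ∀ p : Spor.HN.Gen × Bool, code p < 6 →
      rho (hnLetter (code p)) = unit (code p) := by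
    rintro ⟨g, b⟩ h
    rw [hnLetter_code (g, b) h]
    cases b
    · rw [cond_false, map_inv, rho_inv_of]
    · rw [cond_true, rho_of]
  interval_cases k
  · exact hn (.x, true) (by decide)
  · exact hn (.x, false) (by decide)
  · exact hn (.y, true) (by decide)
  · exact hn (.y, false) (by decide)
  · exact hn (.z, true) (by decide)
  · exact hn (.z, false) (by decide)
  · exact rho_of Spor.HN.Gen.t
  · show rho (gl 7) = unit (code (Spor.HN.Gen.t, false))
    rw [← rho_inv_of, ← map_inv]
    rfl

/-- The matrix of a word. -/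
theorem rho_ev {w : List ℕ} (h : ∀ k ∈ w, k < 8) :
    HNRep.enc ((rho (ev w) : (HNRep.Mat 133)ˣ) : HNRep.Mat 133) = evalWord mask mats w := by
  rw [show mask = HNRep.maskN 133 from rfl, HNRep.evalWord_eq fun k hk => HNRep.len_of_lt (h k hk), ev,
    map_list_prod, List.map_map, ← Units.coeHom_apply, map_list_prod, List.map_map]
  congr 2
  exact List.map_congr_left fun k hk => by
    simp only [Function.comp_apply, Units.coeHom_apply, rho_gl (h k hk), HNRep.unit_val (h k hk)]
    rfl

theorem ne_of_check {u v : List ℕ} (hu : ∀ k ∈ u, k < 8) (hv : ∀ k ∈ v, k < 8)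
    (h : evalWord mask mats u ≠ evalWord mask mats v) : ev u ≠ ev v := fun e => h (by
  rw [← rho_ev hu, ← rho_ev hv, e])

theorem ev_ne_one {u : List ℕ} (hu : ∀ k ∈ u, k < 8) (h : evalWord mask mats u ≠ HNRep.idEnc) : ev u ≠ 1 :=
  fun e => h (by
    rw [← rho_ev hu, e, map_one, Units.val_one, HNRep.enc_one])

theorem W_lt : ∀ k < 9, ∀ x ∈ W k, x < 8 := by decide +kernel

theorem ev_sq : ev [0, 0] = toHN c := by
  simp [HNCoset.ev_cons, HNCoset.gl_small, c]

/-- The central element of the subgroup. -/
theorem commute_c {g : Spor.HN} (h : g ∈ N0) : Commute g (toHN c) := by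
  obtain ⟨n, rfl⟩ := h
  exact (show Commute n c from Subgroup.mem_center_iff.1 c_central n).map toHN

/-- The centraliser of the central involution is the subgroup. -/
theorem mem_N0_of_commute {g : Spor.HN} (h : Commute g (toHN c)) : g ∈ N0 := by
  obtain ⟨k, m, n, hk, hm, hn, hg⟩ := HNCoset.inU_all g
  have hN := mul_mem (HNCoset.ev_mem hn) (HNCoset.ev_mem hm)
  rcases Nat.eq_zero_or_pos k with rfl | hpos
  · rw [hg, HNCoset.W_zero, HNCoset.ev_nil, mul_one]
    exact hN
  exfalso
  obtain ⟨k, rfl⟩ : ∃ k', k = k' + 1 := ⟨k - 1, by omega⟩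
  have hW : Commute (ev (W (k + 1))) (toHN c) := by
    have e : ev (W (k + 1)) = (ev n)⁻¹ * g * (ev m)⁻¹ := by rw [hg]; group
    rw [e]
    exact ((commute_c (HNCoset.ev_mem hn)).inv_left.mul_left h).mul_left (commute_c (HNCoset.ev_mem hm)).inv_left
  refine ne_of_check (u := W (k + 1) ++ [0, 0]) (v := [0, 0] ++ W (k + 1)) ?_ ?_
    (rep_commute_check k (by omega)) ?_
  · intro x hx
    rcases List.mem_append.1 hx with hx | hx
    · exact W_lt _ hk x hx
    · simp only [List.mem_cons, List.not_mem_nil, or_false] at hx; omega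
  · intro x hx
    rcases List.mem_append.1 hx with hx | hx
    · simp only [List.mem_cons, List.not_mem_nil, or_false] at hx; omega
    · exact W_lt _ hk x hx
  · rw [HNCoset.ev_append, HNCoset.ev_append, ev_sq]
    exact hW.eq

end CfsgLib.Sporadic.HNOut
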