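import Mathlib

set_option autoImplicit false

/-! An element of order eleven on a hundred points, the graph, and witnesses (owner: helper9). -/

namespace CfsgLib.Sporadic.HNOut

/-- half of the word of the element of order eleven -/
def elevenHalf : List ℕ := [2, 4, 1, 3, 3, 3, 4]

/-- its packed image table -/
def elevenPerm : ℕ := 0xdc1915026154340744b07043114381781a0882a174631202b0c45000c320781308c09170080583a0044e14c0616828030401302110400010200fc360cc140d446034510486207c0f158150e40e090421282e15c2d0f05b0ec180bc2c0f410134610081113c0509c1b0f85211c17094300285f1800b110580a45912407

/-- the twenty-two neighbours of the fixed point, by orbits -/
def nbrList : List ℕ := [2, 89, 69, 22, 97, 84, 42, 15, 62, 40, 21, 8, 95, 85, 34, 46, 81, 72, 9, 10, 48, 70]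

/-- adjacency rows, one after another in blocks of a hundred bits -/
def adjBits : ℕ := 0x3fffff000000000000337d652900907000000000033c00e83d86002b00000000028f05c04e140c2130000000001d8aa819860130430000000003645c32308680483000000055c0000139c1c080cd00000030e40006a051d2300150000001b3000198482a4822250000002e88002c4a2a404540500000180b80cc000372181019000000c6606a0005604606109000001438455001848a010e09000000d80d814060006c0057100000168530283002888428910000026128a489290011140a1000002a2151610c30102098210000025492184a5400134024100000289c241a0a60400a48410000030c24c2560884002138100000312492925108100d8101000001b502b0300052092a4010001f800000000007aec0241e002a1c00000008e70056040660034a40000000f18889050286001f4000000034829700a9006014384000049401484248034a01844c000046800b2c000588a00c63000003c001151131800a02505400010581a001a09083200d888000280c2201419200d202892400010a46402142411120168600001a21101800c0a1a2031228000094584802210162201b1100003112052080848c4202a2c00000e124284040345020265080002521284408222a02030c90000228a9042201c6002140264022c00000981601112c0c068805a000000c46112420c18051402d00000162182c080c0c1830301800014003194803424110c08940002c00c2001a542808c40868000520240484194183048290400102a008820ca41429801c400022048048621443012901188002830102190444300c282430001a013003030842823201604001450400608704242450234000218148001e80448402c40340640000096002b8448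09440c80980000850540580cc1418044030000450828918154018c110108005002902868490250830825000202048c42850830884845040021042214481980a144082040182009405885044c101606080009080b208845052106101a00008a004b208460848a820828080024027030604910905308008010068a050609061200d8404001800194902640a150208803004021123104a118118820144000280e06102a8018e082040060600304c10511806081900c8028000c10e044720211049100808010382600f20064a0003014c000044b201a4a0290202050240103a0120522030720130080000c25242030e00640454002310002109c06120884d02c008000804066c0258a02840888204104010d1402954030112041110040188a8048ac02244222040200126c0803301418a01403000202083d0062060602a04c0c80000295200169403208010a2080101718008510c1090881a1088e2800000c021440a4543048288c40000084a0286404920249485800000a042488124c410a1542400000a1003442190c09512824000008909088c12025046260c0000092008c48a040ca2c20e000000905121101510521091a800000889206008c05447a0510000008860905142210134409c00000c00aa01428a84c00925400000844c0600700a8385851000000908850a04920a023314800000c0141821921488821a900000086031092801920c44360000008a04612220261508638000000a0858104c24826107c0000000912602070070381f800000000a238023803803fe0000000000c3c003c003ffc000000000000fc0003fffc000000000000000fffffc0000000000000000000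

end CfsgLib.Sporadic.HNOut
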