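import Cfsg.Agent.Lib.Sporadic.HNGroup.Cover
import Cfsg.Agent.Lib.Sporadic.HNOut.ElevenData

/-!
# An element of order eleven centralised by no involution but the central one (owner: helper9)
-/

set_option autoImplicit false
set_option maxRecDepth 20000
set_option exponentiation.threshold 12000

namespace CfsgLib.Sporadic.HNOut

open CfsgLib.Sporadic CfsgLib.Sporadic.HNGroup
open CfsgLib.Schur.Cert (pgetN)

/-- The word of the element of order eleven. -/
def elevenWord : List ℕ := (elevenHalf ++ elevenHalf) ++ (elevenHalf ++ elevenHalf)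

/-- The image of a point under the element of order eleven. -/
noncomputable def eImg (x : ℕ) : ℕ := pgetN elevenPerm x

/-- Iterated images. -/
noncomputable def eIter (m x : ℕ) : ℕ := Nat.rec x (fun _ r => eImg r) m

/-- Adjacency of two points. -/
noncomputable def adjB (x y : ℕ) : Bool := Nat.testBit adjBits (100 * x + y)

theorem word_lt : ∀ k ∈ elevenWord, k < 6 := by decide +kernel

theorem eImg_check : forallLt 100 (fun x => Nat.beq (HNGroup.wordImg elevenWord x) (eImg x) &&
    Nat.beq (eIter 11 x) x && (Nat.beq (eImg x) x == Nat.beq x 51)) = true := by decide +kernel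

theorem eImg_move : eImg 2 ≠ 2 := by decide +kernel

theorem adj_check : ([0, 2, 4] : List ℕ).all (fun k => forallLt 100 fun x => forallLt 100 fun y =>
    adjB (img k x) (img k y) == adjB x y) = true := by decide +kernel

theorem nbr_check : forallLt 100 (fun x => adjB 51 x == nbrList.contains x) = true ∧
    forallLt 11 (fun m => Nat.beq (nbrList.getD m 0) (eIter m 2) && Nat.beq (nbrList.getD (11 + m) 0) (eIter m 8)) = true ∧
    nbrList.length = 22 := by
  decide +kernel

theorem far_check : forallLt 100 (fun v => forallLt 100 fun w => adjB 51 v || Nat.beq v 51 ||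
    adjB 51 w || Nat.beq w 51 || Nat.beq v w || nbrList.any (fun n => adjB v n != adjB w n)) = true := by
  decide +kernel

/-- A pair of images of the two representatives, refuted on the point zero. -/
noncomputable def badPair (a b : ℕ) : Bool :=
  forallLt 100 fun w => (List.range 11).any fun m =>
    (adjB w (eIter m a) != adjB 0 (eIter m 2)) || (adjB w (eIter m b) != adjB 0 (eIter m 8))

theorem pair_check : forallLt 22 (fun ja => forallLt 22 fun jb =>
    (Nat.blt ja 11 && Nat.beq jb (ja + 11)) || badPair (nbrList.getD ja 0) (nbrList.getD jb 0)) = true := by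
  decide +kernel

/-- Half of the element. -/
def elevenRoot : P0 := (elevenHalf.map L).prod

/-- The element of order eleven. -/
def eleven : P0 := (elevenRoot * elevenRoot) * (elevenRoot * elevenRoot)

theorem eleven_mem : eleven ∈ Q := mul_mem (sq_mem_Q _) (sq_mem_Q _)

theorem eleven_eq : eleven = (elevenWord.map L).prod := by
  simp only [eleven, elevenRoot, elevenWord, List.map_append, List.prod_append]

theorem pi_eleven (i : Fin 100) : ((pi eleven i : Fin 100) : ℕ) = eImg i := by
  rw [eleven_eq, pi_prod word_lt]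
  have h := forallLt_elim eImg_check i.isLt
  simp only [Bool.and_eq_true, Nat.beq_eq] at h
  exact h.1.1

theorem pi_pow_eleven (m : ℕ) (i : Fin 100) : ((pi (eleven ^ m) i : Fin 100) : ℕ) = eIter m i := by
  induction m with
  | zero => rw [pow_zero, map_one]; rfl
  | succ m ih => rw [pow_succ', map_mul, Equiv.Perm.mul_apply, pi_eleven, ih]; rfl

theorem ker_cases {q : P0} (hq : q ∈ Q) (h : pi q = 1) : q = 1 ∨ q = c := by
  have hq' : (⟨q, hq⟩ : ↥Q) ∈ tauQ.ker := h
  have hc' : (⟨c, c_mem_Q⟩ : ↥Q) ∈ tauQ.ker := pi_c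
  have hne : (⟨⟨c, c_mem_Q⟩, hc'⟩ : tauQ.ker) ≠ 1 := fun e => c_ne_one (congrArg (fun t : tauQ.ker => ((t : ↥Q) : P0)) e)
  obtain ⟨u, v, -, huv⟩ := Nat.card_eq_two_iff.1 card_ker_two
  have hall : ∀ t : tauQ.ker, t = u ∨ t = v := fun t => by
    have : t ∈ ({u, v} : Set tauQ.ker) := huv ▸ Set.mem_univ t
    simpa using this
  rcases hall ⟨⟨q, hq⟩, hq'⟩ with e | e <;> rcases hall ⟨⟨c, c_mem_Q⟩, hc'⟩ with e' | e' <;>
    rcases hall 1 with e1 | e1
  all_goals
    first
    | (left; exact congrArg (fun t : tauQ.ker => ((t : ↥Q) : P0)) (e.trans e1.symm))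
    | (right; exact congrArg (fun t : tauQ.ker => ((t : ↥Q) : P0)) (e.trans e'.symm))
    | exact absurd (e'.trans e1.symm) hne

theorem square_check : forallLt 100 (fun x =>
    Nat.beq (Nat.rec x (fun _ r => HNGroup.wordImg (elevenHalf ++ elevenHalf) r) 11) x) = true := by decide +kernel

theorem eleven_pow : eleven ^ 11 = 1 := by
  have hq : (elevenRoot * elevenRoot) ^ 11 ∈ Q := pow_mem (sq_mem_Q _) 11
  have hlt : ∀ k ∈ elevenHalf ++ elevenHalf, k < 6 := by decide +kernel
  have hit : ∀ (m : ℕ) (i : Fin 100), ((pi ((elevenRoot * elevenRoot) ^ m) i : Fin 100) : ℕ) =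
      Nat.rec (i : ℕ) (fun _ r => HNGroup.wordImg (elevenHalf ++ elevenHalf) r) m := by
    intro m i
    induction m with
    | zero => rw [pow_zero, map_one]; rfl
    | succ m ih =>
      rw [pow_succ', map_mul, Equiv.Perm.mul_apply,
        show elevenRoot * elevenRoot = ((elevenHalf ++ elevenHalf).map L).prod by
          rw [elevenRoot, List.map_append, List.prod_append], pi_prod hlt]
      rw [show elevenRoot * elevenRoot = ((elevenHalf ++ elevenHalf).map L).prod by
          rw [elevenRoot, List.map_append, List.prod_append]] at ih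
      rw [ih]
  have h : pi ((elevenRoot * elevenRoot) ^ 11) = 1 := Equiv.ext fun i => Fin.ext (by
    rw [hit]; exact Nat.eq_of_beq_eq_true (forallLt_elim square_check i.isLt))
  have e : eleven ^ 11 = (elevenRoot * elevenRoot) ^ 11 * (elevenRoot * elevenRoot) ^ 11 := by
    rw [eleven, (Commute.refl _).mul_pow]
  rcases ker_cases hq h with e' | e' <;> rw [e, e']
  · rw [one_mul]
  · exact c_sq

theorem pi_eleven_ne : pi eleven ≠ 1 := fun h => eImg_move (by
  have := congrArg (fun σ : Equiv.Perm (Fin 100) => ((σ ⟨2, by norm_num⟩ : Fin 100) : ℕ)) h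
  simpa [pi_eleven] using this)

theorem orderOf_eleven : orderOf eleven = 11 := by
  haveI : Fact (Nat.Prime 11) := ⟨by norm_num⟩
  exact orderOf_eq_prime eleven_pow fun h => pi_eleven_ne (by rw [h, map_one])

theorem adj_invariant (g : P0) : ∀ x y : Fin 100, adjB (pi g x : Fin 100) (pi g y : Fin 100) = adjB x y := by
  let S : Subgroup P0 :=
    { carrier := {g | ∀ x y : Fin 100, adjB (pi g x : Fin 100) (pi g y : Fin 100) = adjB x y}
      one_mem' := fun x y => by simp
      mul_mem' := fun {a b} ha hb x y => by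
        rw [map_mul, Equiv.Perm.mul_apply, Equiv.Perm.mul_apply, ha, hb]
      inv_mem' := fun {a} ha x y => by
        rw [← ha, ← Equiv.Perm.mul_apply, ← Equiv.Perm.mul_apply, ← map_mul, mul_inv_cancel, map_one]
        rfl }
  have hle : (⊤ : Subgroup P0) ≤ S := by
    rw [← L_closure, Subgroup.closure_le]
    rintro _ ⟨k, hk, rfl⟩ x y
    have hk6 : k < 6 := by
      simp only [List.mem_cons, List.not_mem_nil, or_false] at hk
      omega
    rw [pi_L hk6, perm_apply hk6, perm_apply hk6]
    have := forallLt_elim (forallLt_elim (List.all_eq_true.1 adj_check k hk) x.isLt) y.isLt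
    simpa using this
  exact hle (Subgroup.mem_top g)

/-- The fixed point. -/
def fixedPt : Fin 100 := ⟨51, by norm_num⟩

theorem fixed_iff (i : Fin 100) : pi eleven i = i ↔ i = fixedPt := by
  have h := forallLt_elim eImg_check i.isLt
  simp only [Bool.and_eq_true, Nat.beq_eq, beq_iff_eq] at h
  rw [Fin.ext_iff, pi_eleven, Fin.ext_iff]
  constructor
  · intro e
    have h' := h.2
    rw [e, Nat.beq_refl] at h'
    exact Nat.eq_of_beq_eq_true h'.symm
  · intro e
    have h' := h.2
    rw [e] at h' ⊢
    exact Nat.eq_of_beq_eq_true (h'.trans (Nat.beq_refl _))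

theorem commute_fixed {n : P0} (hn : Commute n eleven) : pi n fixedPt = fixedPt := by
  refine (fixed_iff _).1 ?_
  rw [← Equiv.Perm.mul_apply, ← map_mul, ← hn.eq, map_mul, Equiv.Perm.mul_apply, (fixed_iff _).2 rfl]

theorem commute_iter {n : P0} (hn : Commute n eleven) (m : ℕ) (x : Fin 100) :
    ((pi n ⟨eIter m x, pi_pow_eleven m x ▸ Fin.isLt _⟩ : Fin 100) : ℕ) = eIter m (pi n x : Fin 100) := by
  rw [show (⟨eIter m x, pi_pow_eleven m x ▸ Fin.isLt _⟩ : Fin 100) = pi (eleven ^ m) x from
    Fin.ext (pi_pow_eleven m x).symm, ← Equiv.Perm.mul_apply, ← map_mul, (hn.pow_right m).eq, map_mul,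
    Equiv.Perm.mul_apply, pi_pow_eleven]

theorem nbr_spec {x : ℕ} (h : x < 100) : adjB 51 x = true ↔ ∃ j < 22, nbrList.getD j 0 = x := by
  obtain ⟨h1, -, h3⟩ := nbr_check
  have := forallLt_elim h1 h
  rw [beq_iff_eq] at this
  rw [this, List.contains_iff_mem]
  constructor
  · intro hm
    obtain ⟨j, hj, e⟩ := List.getElem_of_mem hm
    exact ⟨j, h3 ▸ hj, by rw [List.getD_eq_getElem _ _ hj, e]⟩
  · rintro ⟨j, hj, rfl⟩
    rw [List.getD_eq_getElem _ _ (h3.symm ▸ hj)]
    exact List.getElem_mem _

theorem nbr_iter {m : ℕ} (hm : m < 11) :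
    nbrList.getD m 0 = eIter m 2 ∧ nbrList.getD (11 + m) 0 = eIter m 8 := by
  have := forallLt_elim nbr_check.2.1 hm
  simpa using this

/-- An element commuting with the element of order eleven and fixing both representatives acts trivially. -/
theorem pi_eq_one {n : P0} (hn : Commute n eleven) (ha : pi n ⟨2, by norm_num⟩ = ⟨2, by norm_num⟩)
    (hb : pi n ⟨8, by norm_num⟩ = ⟨8, by norm_num⟩) : pi n = 1 := by
  have h51 := commute_fixed hn
  have hN : ∀ i : Fin 100, adjB 51 i = true → pi n i = i := by
    intro i hi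
    obtain ⟨j, hj, e⟩ := (nbr_spec i.isLt).1 hi
    rcases Nat.lt_or_ge j 11 with h | h
    · have hc := commute_iter hn j ⟨2, by norm_num⟩
      rw [ha] at hc
      refine Fin.ext ?_
      rw [show i = ⟨eIter j 2, (nbr_iter h).1 ▸ e ▸ i.isLt⟩ from Fin.ext (e.symm.trans (nbr_iter h).1)]
      exact hc
    · obtain ⟨m, rfl⟩ : ∃ m, j = 11 + m := ⟨j - 11, by omega⟩
      have hm : m < 11 := by omega
      have hc := commute_iter hn m ⟨8, by norm_num⟩
      rw [hb] at hc
      refine Fin.ext ?_
      rw [show i = ⟨eIter m 8, (nbr_iter hm).2 ▸ e ▸ i.isLt⟩ from Fin.ext (e.symm.trans (nbr_iter hm).2)]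
      exact hc
  refine Equiv.ext fun i => ?_
  show pi n i = i
  by_cases hi : i = fixedPt
  · rw [hi, h51]
  by_cases hA : adjB 51 i = true
  · exact hN i hA
  set j := pi n i with hj
  have hjA : adjB 51 j = adjB 51 i := by
    have := adj_invariant n fixedPt i
    rw [h51] at this
    exact this
  have hj51 : j ≠ fixedPt := fun e => hi ((pi n).injective (e.trans h51.symm))
  have h := forallLt_elim (forallLt_elim far_check i.isLt) j.isLt
  simp only [Bool.or_eq_true, Nat.beq_eq, List.any_eq_true] at h
  rw [hjA] at h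
  rcases h with ((((h | h) | h) | h) | h) | ⟨x, hx, h⟩
  · exact absurd h hA
  · exact absurd (Fin.ext h) hi
  · exact absurd h hA
  · exact absurd (Fin.ext h) hj51
  · exact (Fin.ext h).symm
  · exfalso
    have hx100 : x < 100 := by
      have : nbrList.all (fun y => Nat.blt y 100) = true := by decide +kernel
      simpa using List.all_eq_true.1 this x hx
    have hxA : adjB 51 x = true := by
      have := forallLt_elim nbr_check.1 hx100
      rw [beq_iff_eq] at this
      rw [this]; exact List.contains_iff_mem.2 hx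
    have e := adj_invariant n i ⟨x, hx100⟩
    rw [hN ⟨x, hx100⟩ hxA] at e
    simp [hj, e] at h

/-- The only involution commuting with the element of order eleven is the central one. -/
theorem eq_c_of_commute {n : P0} (h2 : n * n = 1) (hn : Commute n eleven) : n = 1 ∨ n = c := by
  have h51 := commute_fixed hn
  have hA : ∀ r : Fin 100, adjB 51 r = true → ∃ j < 22, nbrList.getD j 0 = (pi n r : Fin 100) := by
    intro r hr
    refine (nbr_spec (Fin.isLt _)).1 ?_
    have := adj_invariant n fixedPt r
    rw [h51] at this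
    exact this.trans hr
  obtain ⟨ja, hja, ea⟩ := hA ⟨2, by norm_num⟩ ((nbr_spec (by norm_num)).2 ⟨0, by norm_num, by rfl⟩)
  obtain ⟨jb, hjb, eb⟩ := hA ⟨8, by norm_num⟩ ((nbr_spec (by norm_num)).2 ⟨11, by norm_num, by rfl⟩)
  have h := forallLt_elim (forallLt_elim pair_check hja) hjb
  rw [Bool.or_eq_true, Bool.and_eq_true, Nat.blt_eq, Nat.beq_eq] at h
  rcases h with ⟨hj, rfl⟩ | hbad
  · set m := (eleven ^ ja)⁻¹ * n with hm
    have hmc : Commute m eleven := ((Commute.refl eleven).pow_left ja).inv_left.mul_left hn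
    have hpe : ∀ r : Fin 100, (pi n r : Fin 100) = pi (eleven ^ ja) r → pi m r = r := fun r e => by
      rw [hm, map_mul, Equiv.Perm.mul_apply, e, ← Equiv.Perm.mul_apply, ← map_mul, inv_mul_cancel, map_one]
      rfl
    have hm1 := pi_eq_one hmc
      (hpe _ (Fin.ext (by rw [pi_pow_eleven, ← ea, (nbr_iter hj).1])))
      (hpe _ (Fin.ext (by rw [pi_pow_eleven, ← eb, add_comm ja, (nbr_iter hj).2])))
    have hpn : pi n = pi (eleven ^ ja) := by
      rwa [hm, map_mul, map_inv, inv_mul_eq_one, eq_comm] at hm1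
    have he : pi eleven ^ (2 * ja) = 1 := by
      rw [two_mul, pow_add, ← map_pow, ← hpn, ← map_mul, h2, map_one]
    haveI : Fact (Nat.Prime 11) := ⟨by norm_num⟩
    have ho : orderOf (pi eleven) = 11 :=
      orderOf_eq_prime (by rw [← map_pow, eleven_pow, map_one]) pi_eleven_ne
    have hdiv : 11 ∣ 2 * ja := ho ▸ orderOf_dvd_of_pow_eq_one he
    obtain rfl : ja = 0 := by omega
    rw [pow_zero, map_one] at hpn
    by_cases hq : n ∈ Q
    · exact ker_cases hq hpn
    · exfalso
      have hz : n * L 4 ∈ Q := (Q_cases n).resolve_left hq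
      have := sign_Q hz
      rw [map_mul, hpn, one_mul, sign_pi_z] at this
      exact absurd this (by decide)
  · exfalso
    simp only [badPair] at hbad
    have hw := forallLt_elim hbad (pi n ⟨0, by norm_num⟩).isLt
    rw [List.any_eq_true] at hw
    obtain ⟨m, -, hm⟩ := hw
    have h1 := adj_invariant n ⟨0, by norm_num⟩ ⟨eIter m 2, pi_pow_eleven m ⟨2, by norm_num⟩ ▸ Fin.isLt _⟩
    have h2' := adj_invariant n ⟨0, by norm_num⟩ ⟨eIter m 8, pi_pow_eleven m ⟨8, by norm_num⟩ ▸ Fin.isLt _⟩
    rw [commute_iter hn m ⟨2, by norm_num⟩, ← ea] at h1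
    rw [commute_iter hn m ⟨8, by norm_num⟩, ← eb] at h2'
    simp only [Bool.or_eq_true, bne_iff_ne] at hm
    exact hm.elim (fun h => h h1) fun h => h h2'

end CfsgLib.Sporadic.HNOut
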