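import Cfsg.Agent.Lib.Sporadic.HNOut.Centralizer
import Cfsg.Agent.Lib.Sporadic.HNMult.Multiplier

/-!
# The outer automorphism of the presented Harada–Norton group (owner: helper9)
-/

set_option autoImplicit false
set_option maxRecDepth 20000

namespace CfsgLib.Sporadic.HNOut

open Cfsg CfsgLib.Sporadic CfsgLib.Sporadic.HNGroup
open CfsgLib.Sporadic.HNMult (Rels)
open CfsgLib.Sporadic.HNCoset (N0)
open scoped commutatorElement

section

variable {M : Type*} [Group M] {x y z t : M}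

theorem t_conj_x (R : Rels x y z t) : x⁻¹ * t * x = t ^ 3 := by
  rw [eq_inv_of_mul_eq_one_left R.r12]
  refine inv_eq_of_mul_eq_one_right ?_
  rw [← pow_add]
  exact R.r11

theorem z_conj_x (R : Rels x y z t) : x⁻¹ * z * x = x ^ 2 * z → (x ^ 2 * z * t ^ 3) ^ 3 = 1 := by
  intro h
  rw [← t_conj_x R, ← h, show x⁻¹ * z * x * (x⁻¹ * t * x) = x⁻¹ * (z * t) * (x⁻¹)⁻¹ by group, conj_pow, R.r14,
    mul_one, mul_inv_cancel]

/-- The twisted images satisfy the relators. -/
theorem twist_rels (R : Rels x y z t) (hy : Commute (x ^ 2) y) (hz : Commute (x ^ 2) z) (h4 : x ^ 2 * x ^ 2 = 1) :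
    Rels x y (x ^ 2 * z) (t ^ 3) := by
  have hx : Commute (x ^ 2) x := (Commute.refl x).pow_left 2
  have hzx : x⁻¹ * z * x = x ^ 2 * z := by
    have e : z * x * z = x⁻¹ := eq_inv_of_mul_eq_one_left (by
      have := R.r8
      rw [pow_two] at this
      simpa [mul_assoc] using this)
    rw [← e, hz.eq, pow_two]
    have h7 := R.r7
    rw [pow_two] at h7
    calc z * x * z * z * x = z * x * (z * z) * x := by group
      _ = z * (x * x) := by rw [h7, mul_one, mul_assoc]
  have ht : t ^ 3 = x⁻¹ * t * x := (t_conj_x R).symm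
  refine ⟨R.r1, R.r2, R.r3, R.r4, R.r5, R.r6, ?_, ?_, ?_, ?_, ?_, ?_, ?_, z_conj_x R hzx⟩
  · rw [hz.mul_pow, R.r7, mul_one, pow_two, h4]
  · rw [mul_assoc, (hz.mul_right hx).mul_pow, R.r8, mul_one, pow_two, h4]
  · have hh : Commute (x ^ 2) (y * x * y * x * y ^ 2 * x * y⁻¹) :=
      (((((hy.mul_right hx).mul_right hy).mul_right hx).mul_right (hy.pow_right 2)).mul_right hx).mul_right
        hy.inv_right
    obtain ⟨w, hw⟩ : ∃ w, w = y * x * y * x * y ^ 2 * x * y⁻¹ := ⟨_, rfl⟩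
    have h9 := R.r9
    rw [← hw] at h9 hh ⊢
    have e : (x ^ 2 * z)⁻¹ * w⁻¹ * (x ^ 2 * z) * w = z⁻¹ * w⁻¹ * z * w := by
      calc (x ^ 2 * z)⁻¹ * w⁻¹ * (x ^ 2 * z) * w = z⁻¹ * ((x ^ 2)⁻¹ * (w⁻¹ * x ^ 2)) * z * w := by group
        _ = z⁻¹ * ((x ^ 2)⁻¹ * (x ^ 2 * w⁻¹)) * z * w := by rw [hh.inv_right.eq]
        _ = z⁻¹ * w⁻¹ * z * w := by group
    rw [e]
    exact h9
  · have hh : Commute (x ^ 2) (y ^ 3 * x * y * x * y) :=
      ((((hy.pow_right 3).mul_right hx).mul_right hy).mul_right hx).mul_right hy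
    obtain ⟨w, hw⟩ : ∃ w, w = y ^ 3 * x * y * x * y := ⟨_, rfl⟩
    have h10 := R.r10
    rw [← hw] at h10 hh ⊢
    have e : w⁻¹ * (x ^ 2 * z) * w * x = x ^ 2 * (w⁻¹ * z * w * x) := by
      calc w⁻¹ * (x ^ 2 * z) * w * x = (w⁻¹ * x ^ 2) * z * w * x := by group
        _ = (x ^ 2 * w⁻¹) * z * w * x := by rw [hh.inv_right.eq]
        _ = x ^ 2 * (w⁻¹ * z * w * x) := by group
    rw [e, ((((hh.inv_right).mul_right hz).mul_right hh).mul_right hx).mul_pow, ← mul_assoc,
      mul_assoc (x ^ 2) z, ((hz.pow_left 3).symm).eq, ← mul_assoc, pow_succ (x ^ 2) 2, pow_two (x ^ 2), h4,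
      one_mul, h4, one_mul]
    exact h10
  · rw [← pow_mul, mul_comm 3 5, pow_mul, R.r11, one_pow]
  · rw [ht, show x⁻¹ * (x⁻¹ * t * x) * x * (x⁻¹ * t * x) ^ 2 = x⁻¹ * ((x⁻¹ * t * x) * t ^ 2) * x by
      simp only [pow_succ, pow_zero, one_mul]; group, R.r12, mul_one, inv_mul_cancel]
  · have hc : Commute t y := (Commute.inv_inv_iff).1 (by
      refine eq_inv_of_mul_eq_one_left (b := t * y) ?_ |>.trans (mul_inv_rev t y) |>.trans ?_
      · simpa [mul_assoc] using R.r13
      · rfl)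
    rw [mul_assoc ((t ^ 3)⁻¹) y⁻¹, ← ((hc.pow_left 3).inv_right).eq, ← mul_assoc, inv_mul_cancel, one_mul,
      inv_mul_cancel]

/-- A homomorphism out of the presented group. -/
theorem exists_hom (R : Rels x y z t) : ∃ f : Spor.HN →* M, f (PresentedGroup.of Spor.HN.Gen.x) = x ∧
    f (PresentedGroup.of Spor.HN.Gen.y) = y ∧ f (PresentedGroup.of Spor.HN.Gen.z) = z ∧
    f (PresentedGroup.of Spor.HN.Gen.t) = t := by
  let f : Spor.HN.Gen → M
    | .x => x
    | .y => y
    | .z => z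
    | .t => t
  have hrel : ∀ r ∈ Spor.coxRelators Spor.HN.edges ∪ {r | r ∈ Spor.HN.extra}, FreeGroup.lift f r = 1 := by
    rintro r (⟨a, ha, -⟩ | hr)
    · simp [Spor.coxNodes, Spor.HN.edges] at ha
    · simp only [Spor.HN.extra, Set.mem_setOf_eq, List.mem_cons, List.not_mem_nil, or_false] at hr
      rcases hr with rfl | rfl | rfl | rfl | rfl | rfl | rfl | rfl | rfl | rfl | rfl | rfl | rfl | rfl <;>
        simp only [map_mul, map_pow, map_inv, FreeGroup.lift_apply_of, f, Spor.HN.x, Spor.HN.y, Spor.HN.z, Spor.HN.t]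
      exacts [R.r1, R.r2, R.r3, R.r4, R.r5, R.r6, R.r7, R.r8, R.r9, R.r10, R.r11, R.r12, R.r13, R.r14]
  exact ⟨PresentedGroup.toGroup hrel, PresentedGroup.toGroup.of hrel, PresentedGroup.toGroup.of hrel,
    PresentedGroup.toGroup.of hrel, PresentedGroup.toGroup.of hrel⟩

end

/-- The generators. -/
abbrev X : Spor.HN := PresentedGroup.of Spor.HN.Gen.x
/-- The generators. -/
abbrev Y : Spor.HN := PresentedGroup.of Spor.HN.Gen.y
/-- The generators. -/
abbrev Z : Spor.HN := PresentedGroup.of Spor.HN.Gen.z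
/-- The generators. -/
abbrev T : Spor.HN := PresentedGroup.of Spor.HN.Gen.t

theorem c_eq : toHN c = X ^ 2 := by rw [c, map_mul, toHN_x, pow_two]

theorem mem_N0_gens : X ∈ N0 ∧ Y ∈ N0 ∧ Z ∈ N0 := ⟨⟨_, toHN_x⟩, ⟨_, toHN_y⟩, ⟨_, toHN_z⟩⟩

/-- Two homomorphisms agreeing on the four generators are equal. -/
theorem hom_ext {M : Type*} [Group M] {f g : Spor.HN →* M} (hx : f X = g X) (hy : f Y = g Y) (hz : f Z = g Z)
    (ht : f T = g T) : f = g := PresentedGroup.ext fun a => by cases a <;> assumption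

/-- The conjugate of the element of order five under the central involution. -/
theorem c_conj_T : toHN c * T * (toHN c)⁻¹ = T ^ 4 := by
  have h : X⁻¹ * T * X = T ^ 3 := t_conj_x HNMult.big_rels
  rw [← map_inv, c_inv, c_eq]
  calc X ^ 2 * T * X ^ 2 = (X ^ 4 * X⁻¹ * X⁻¹) * T * X ^ 2 := by group
    _ = X⁻¹ * X⁻¹ * T * X ^ 2 := by
      rw [show X ^ 4 = X ^ 2 * X ^ 2 from pow_add X 2 2, ← c_eq, ← map_mul, c_sq, map_one, one_mul]
    _ = X⁻¹ * (X⁻¹ * T * X) * (X⁻¹)⁻¹ := by rw [inv_inv, pow_two]; simp only [mul_assoc]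
    _ = (X⁻¹ * T * X) ^ 3 := by
      rw [h, ← conj_pow, inv_inv, h]
    _ = (T ^ 5) * T ^ 4 := by
      rw [h, ← pow_mul, ← pow_add]
    _ = T ^ 4 := by rw [HNMult.big_rels.r11, one_mul]

/-- The outer automorphism. -/
theorem exists_phi : ∃ φ : MulAut Spor.HN, φ X = X ∧ φ Y = Y ∧ φ Z = toHN c * Z ∧ φ T = T ^ 3 := by
  have hy : Commute (X ^ 2) Y := by rw [← c_eq]; exact (commute_c mem_N0_gens.2.1).symm
  have hz : Commute (X ^ 2) Z := by rw [← c_eq]; exact (commute_c mem_N0_gens.2.2).symm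
  have h4 : X ^ 2 * X ^ 2 = 1 := by rw [← c_eq, ← map_mul, c_sq, map_one]
  obtain ⟨f, fx, fy, fz, ft⟩ := exists_hom (twist_rels HNMult.big_rels hy hz h4)
  have fc : f (toHN c) = toHN c := by rw [c_eq, map_pow, fx]
  have hsq : f.comp f = (MulAut.conj (toHN c)).toMonoidHom := by
    refine hom_ext ?_ ?_ ?_ ?_ <;>
      simp only [MonoidHom.comp_apply, MulEquiv.coe_toMonoidHom, MulAut.conj_apply]
    · rw [fx, fx, (commute_c mem_N0_gens.1).symm.eq, mul_inv_cancel_right]
    · rw [fy, fy, (commute_c mem_N0_gens.2.1).symm.eq, mul_inv_cancel_right]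
    · rw [fz, map_mul, map_pow, fx, fz, (commute_c mem_N0_gens.2.2).symm.eq, mul_inv_cancel_right, ← mul_assoc, h4,
        one_mul]
    · rw [ft, map_pow, ft, ← pow_mul, c_conj_T, show 3 * 3 = 5 + 4 from rfl, pow_add, HNMult.big_rels.r11, one_mul]
  have hb : Function.Bijective (⇑f ∘ ⇑f) := by
    rw [← MonoidHom.coe_comp, hsq]; exact (MulAut.conj (toHN c)).bijective
  have hbf : Function.Bijective f :=
    ⟨Function.Injective.of_comp hb.1, Function.Surjective.of_comp hb.2⟩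
  exact ⟨MulEquiv.ofBijective f hbf, fx, fy, by rw [c_eq]; exact fz, ft⟩

/-- An element centralising the derived subgroup of the small group is one of the two central elements. -/
theorem eq_of_centralises {n : P0} (h : ∀ q ∈ Q, Commute n q) : n = 1 ∨ n = c := by
  by_cases hq : n ∈ Q
  · refine ker_cases' hq ?_
    have hz : (⟨n, hq⟩ : ↥Q) ∈ Subgroup.center ↥Q :=
      Subgroup.mem_center_iff.2 fun q => Subtype.ext (h q.1 q.2).symm.eq
    rw [center_Q] at hz
    exact hz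
  exfalso
  obtain ⟨q, hqQ, rfl⟩ : ∃ q ∈ Q, n = q * L 4 := ⟨n * L 4, (Q_cases n).resolve_left hq,
    by rw [mul_assoc, L_z_sq, mul_one]⟩
  have hzq : Commute (L 4) q := by
    have e := (h q hqQ).eq
    rw [mul_assoc] at e
    exact mul_left_cancel e
  have hall : ∀ a : P0, Commute (q * L 4) a := by
    intro a
    rcases Q_cases a with ha | ha
    · exact h a ha
    · have e : a = a * L 4 * L 4 := by rw [mul_assoc, L_z_sq, mul_one]
      rw [e]
      refine (h _ ha).mul_right ?_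
      exact (hzq.symm.mul_left (Commute.refl _))
  have hsign : Equiv.Perm.sign (pi (q * L 4)) = -1 := by
    rw [map_mul, map_mul, sign_pi_z, sign_Q hqQ, one_mul]
  have hp2 : pi (q * L 4) ^ 2 = 1 := by
    rw [pow_two, ← map_mul]
    have hzc : (⟨q * L 4 * (q * L 4), sq_mem_Q _⟩ : ↥Q) ∈ Subgroup.center ↥Q :=
      Subgroup.mem_center_iff.2 fun r => Subtype.ext ((hall r.1).mul_left (hall r.1)).symm.eq
    rw [center_Q] at hzc
    exact hzc
  exact sign_ne hsign hp2 hall
where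
  ker_cases' {q : P0} (hq : q ∈ Q) (h : (⟨q, hq⟩ : ↥Q) ∈ tauQ.ker) : q = 1 ∨ q = c := by
    let k1 : tauQ.ker := ⟨⟨c, c_mem_Q⟩, pi_c⟩
    have hne : k1 ≠ 1 := fun e => c_ne_one (congrArg (fun t : tauQ.ker => ((t : ↥Q) : P0)) e)
    obtain ⟨w, -, hw⟩ := (Nat.card_eq_two_iff' (1 : tauQ.ker)).1 card_ker_two
    by_cases h1 : (⟨⟨q, hq⟩, h⟩ : tauQ.ker) = 1
    · exact Or.inl (congrArg (fun t : tauQ.ker => ((t : ↥Q) : P0)) h1)
    · exact Or.inr (congrArg (fun t : tauQ.ker => ((t : ↥Q) : P0)) ((hw _ h1).trans (hw _ hne).symm))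
  sign_ne {g : P0} (hs : Equiv.Perm.sign (pi g) = -1) (h2 : pi g ^ 2 = 1) (hall : ∀ a : P0, Commute g a) : False := by
    have hne : ∀ i : Fin 100, pi g i ≠ i := by
      intro i hi
      have hone : pi g = 1 := by
        refine Equiv.ext fun j => ?_
        obtain ⟨a, ha⟩ := pi_transitive i
        obtain ⟨b, hb⟩ := pi_transitive j
        have hm : j = pi (b * a⁻¹) i := by
          rw [← ha, ← Equiv.Perm.mul_apply, ← map_mul, inv_mul_cancel_right, hb]
        rw [hm, ← Equiv.Perm.mul_apply, ← map_mul, (hall _).eq, map_mul, Equiv.Perm.mul_apply, hi,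
          Equiv.Perm.one_apply]
      rw [hone, map_one] at hs
      exact absurd hs (by decide)
    have hsupp : (pi g).support = Finset.univ :=
      Finset.eq_univ_of_forall fun i => Equiv.Perm.mem_support.2 (hne i)
    have hcyc : ∀ n ∈ (pi g).cycleType, n = 2 := fun n hn => by
      have h3 := (Equiv.Perm.dvd_of_mem_cycleType hn).trans (orderOf_dvd_of_pow_eq_one h2)
      have h4 := Equiv.Perm.two_le_of_mem_cycleType hn
      have := Nat.le_of_dvd two_pos h3
      omega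
    have hsum : (pi g).cycleType.sum = 100 := by
      rw [Equiv.Perm.sum_cycleType, hsupp, Finset.card_univ, Fintype.card_fin]
    have hrep := Multiset.eq_replicate_card.2 hcyc
    have hcard : (pi g).cycleType.card = 50 := by
      have := hsum
      rw [hrep, Multiset.sum_replicate, smul_eq_mul] at this
      omega
    rw [Equiv.Perm.sign_of_cycleType, hsum, hcard] at hs
    exact absurd hs (by decide)

/-- The automorphism is outer. -/
theorem phi_not_inner {φ : MulAut Spor.HN} (hx : φ X = X) (hy : φ Y = Y) (hz : φ Z = toHN c * Z) (g : Spor.HN) :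
    φ ≠ MulAut.conj g := by
  rintro rfl
  simp only [MulAut.conj_apply] at hx hy hz
  have hgx : Commute g X := mul_inv_eq_iff_eq_mul.1 hx
  have hgc : Commute g (toHN c) := by rw [c_eq]; exact hgx.pow_right 2
  obtain ⟨n, rfl⟩ := mem_N0_of_commute hgc
  have h0 : Commute n (L 0) := toHN_injective (by rw [map_mul, map_mul, toHN_x]; exact hgx)
  have h2 : Commute n (L 2) := toHN_injective (by
    rw [map_mul, map_mul, toHN_y]; exact mul_inv_eq_iff_eq_mul.1 hy)
  have h4 : n * L 4 * n⁻¹ = c * L 4 := toHN_injective (by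
    rw [map_mul, map_mul, map_mul, map_inv, toHN_z]; exact hz)
  -- conjugation by the element moves everything only by central elements
  have hcc : ∀ a : P0, Commute c a := fun a => (Subgroup.mem_center_iff.1 c_central a).symm
  let D : Subgroup P0 :=
    { carrier := {a | ∃ j : ℤ, n * a * n⁻¹ = c ^ j * a}
      one_mem' := ⟨0, by group⟩
      mul_mem' := fun {a b} ⟨i, ha⟩ ⟨j, hb⟩ => ⟨i + j, by
        calc n * (a * b) * n⁻¹ = (n * a * n⁻¹) * (n * b * n⁻¹) := by group
          _ = c ^ i * (a * c ^ j) * b := by rw [ha, hb]; group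
          _ = c ^ i * (c ^ j * a) * b := by rw [((hcc a).zpow_left j).eq]
          _ = c ^ (i + j) * (a * b) := by rw [zpow_add]; group⟩
      inv_mem' := fun {a} ⟨i, ha⟩ => ⟨-i, by
        calc n * a⁻¹ * n⁻¹ = (n * a * n⁻¹)⁻¹ := by group
          _ = a⁻¹ * c ^ (-i) := by rw [ha]; group
          _ = c ^ (-i) * a⁻¹ := ((hcc a⁻¹).zpow_left (-i)).eq.symm⟩ }
  have hD : ∀ a, a ∈ D := by
    have hle : (⊤ : Subgroup P0) ≤ D := by
      rw [← L_closure, Subgroup.closure_le]
      rintro _ ⟨k, hk, rfl⟩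
      simp only [List.mem_cons, List.not_mem_nil, or_false] at hk
      rcases hk with rfl | rfl | rfl
      · exact ⟨0, by rw [h0.eq, mul_inv_cancel_right, zpow_zero, one_mul]⟩
      · exact ⟨0, by rw [h2.eq, mul_inv_cancel_right, zpow_zero, one_mul]⟩
      · exact ⟨1, by rw [h4, zpow_one]⟩
    exact fun a => hle (Subgroup.mem_top a)
  let C : Subgroup P0 := Subgroup.centralizer {n}
  have hQC : Q ≤ C := by
    rw [Q, commutator_def, Subgroup.commutator_le]
    intro a _ b _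
    obtain ⟨i, ha⟩ := hD a
    obtain ⟨j, hb⟩ := hD b
    refine Subgroup.mem_centralizer_singleton_iff.2 ?_
    have e : n * ⁅a, b⁆ * n⁻¹ = ⁅a, b⁆ := by
      calc n * ⁅a, b⁆ * n⁻¹ = ⁅n * a * n⁻¹, n * b * n⁻¹⁆ := by
            simp only [commutatorElement_def]; group
        _ = ⁅a, b⁆ := by
          rw [ha, hb, commutatorElement_def, commutatorElement_def, mul_inv_rev, mul_inv_rev]
          have ca := fun g => ((hcc g).zpow_left i)
          have cb := fun g => ((hcc g).zpow_left j)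
          calc c ^ i * a * (c ^ j * b) * (a⁻¹ * (c ^ i)⁻¹) * (b⁻¹ * (c ^ j)⁻¹)
              = c ^ i * (a * c ^ j) * b * (a⁻¹ * (c ^ i)⁻¹) * (b⁻¹ * (c ^ j)⁻¹) := by group
            _ = c ^ i * (c ^ j * a) * b * ((c ^ i)⁻¹ * a⁻¹) * ((c ^ j)⁻¹ * b⁻¹) := by
              rw [(cb a).eq, ((ca a⁻¹).inv_left).eq, ((cb b⁻¹).inv_left).eq]
            _ = c ^ i * c ^ j * ((a * b) * (c ^ i)⁻¹) * (a⁻¹ * (c ^ j)⁻¹) * b⁻¹ := by group
            _ = c ^ i * c ^ j * ((c ^ i)⁻¹ * (a * b)) * ((c ^ j)⁻¹ * a⁻¹) * b⁻¹ := by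
              rw [((ca (a * b)).inv_left).eq, ((cb a⁻¹).inv_left).eq]
            _ = c ^ i * c ^ j * (c ^ i)⁻¹ * ((a * b) * (c ^ j)⁻¹) * a⁻¹ * b⁻¹ := by group
            _ = a * b * a⁻¹ * b⁻¹ := by
              rw [← ((cb (a * b)).inv_left).eq]; group
    exact (mul_inv_eq_iff_eq_mul.1 e).symm
  have hn := eq_of_centralises (n := n) fun q hq => (Subgroup.mem_centralizer_singleton_iff.1 (hQC hq)).symm
  refine c_ne_one ?_
  have : n * L 4 * n⁻¹ = L 4 := by
    rcases hn with rfl | rfl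
    · group
    · rw [(hcc (L 4)).eq, mul_inv_cancel_right]
  exact mul_eq_right.1 (h4.symm.trans this)

end CfsgLib.Sporadic.HNOut
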