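import Cfsg.Agent.Lib.Sporadic.HNOut.Points
import Cfsg.Agent.Lib.Sporadic.HNOut.Outer

/-!
# An automorphism fixing the small group moves the element of order five to a power (owner: helper9)
-/

set_option autoImplicit false
set_option maxRecDepth 20000

namespace CfsgLib.Sporadic.HNOut

open Cfsg CfsgLib.Sporadic CfsgLib.Sporadic.HNGroup
open CfsgLib.Sporadic.HNCoset (N0 W ev stabP stabLvls stabOrders gensOf isN repW expWord psi psi_prod sWord)

/-- The generators of the first stabiliser as words. -/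
noncomputable def firstGens : List (List ℕ) := gensOf (stabLvls 1)

theorem fixed_states : forallLt 1408 (fun s =>
    Nat.blt s 4 == firstGens.all (fun w => Nat.beq (sWord w s) s)) = true := by decide +kernel

theorem first_gens : firstGens.all isN = true ∧ HNCoset.lvlsOK (stabLvls 1) = true ∧
    HNCoset.orbitProd (stabLvls 1) = 126000 := by
  have h := forallLt_elim HNCoset.stab_ok (show 0 < 8 by norm_num)
  simp only [HNCoset.stabOK, Bool.and_eq_true, Nat.beq_eq] at h
  exact ⟨h.2.1, h.1, h.2.2.trans (by decide)⟩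

theorem mem_stabP_one {p : P0} : p ∈ stabP 1 ↔ T * toHN p * T⁻¹ ∈ N0 := by
  show toHN p • HNCoset.pt 1 = HNCoset.pt 1 ↔ _
  rw [HNCoset.pt, MulAction.Quotient.smul_coe, smul_eq_mul, QuotientGroup.eq, show W 1 = [6] from rfl,
    HNCoset.ev_cons, HNCoset.ev_nil, mul_one, HNCoset.gl_six, mul_inv_rev, inv_inv,
    show T * (toHN p)⁻¹ * T⁻¹ = (T * toHN p * T⁻¹)⁻¹ by group]
  exact inv_mem_iff

theorem gens_mem {w : List ℕ} (hw : w ∈ firstGens) : (w.map L).prod ∈ stabP 1 := by
  obtain ⟨l, hl, hw'⟩ : ∃ l ∈ stabLvls 1, w ∈ l.gens := by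
    revert hw
    rw [firstGens]
    generalize stabLvls 1 = ls
    intro hw
    induction ls with
    | nil => simp [gensOf] at hw
    | cons l ls ih =>
      rcases List.mem_append.1 hw with hw | hw
      · exact ⟨l, List.mem_cons_self, hw⟩
      · obtain ⟨l', hl', h'⟩ := ih hw
        exact ⟨l', List.mem_cons_of_mem _ hl', h'⟩
  simp only [stabLvls, List.mem_map] at hl
  obtain ⟨d, -, rfl⟩ := hl
  obtain ⟨h', -, rfl⟩ := List.mem_map.1 hw'
  exact HNCoset.stabWord_mem (List.all_eq_true.1 first_gens.1 _ hw)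

/-- Every element is given by a word. -/
theorem exists_word (a : P0) : ∃ w : List ℕ, isN w = true ∧ (w.map L).prod = a := by
  have ha : a ∈ Subgroup.closure {g | ∃ x ∈ ([0, 2, 4] : List ℕ), g = L x} := L_closure ▸ Subgroup.mem_top a
  induction ha using Subgroup.closure_induction with
  | mem g hg =>
    obtain ⟨x, hx, rfl⟩ := hg
    refine ⟨[x], ?_, by simp⟩
    simp only [List.mem_cons, List.not_mem_nil, or_false] at hx
    rcases hx with rfl | rfl | rfl <;> rfl
  | one => exact ⟨[], rfl, rfl⟩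
  | mul g h _ _ hg hh =>
    obtain ⟨u, hu, rfl⟩ := hg
    obtain ⟨v, hv, rfl⟩ := hh
    exact ⟨u ++ v, by rw [HNCoset.isN_append, hu, hv]; rfl, by rw [List.map_append, List.prod_append]⟩
  | inv g _ hg =>
    obtain ⟨u, hu, rfl⟩ := hg
    exact ⟨HNCoset.winv u, HNCoset.isN_winv hu, HNCoset.L_prod_winv u⟩

variable (hcard : OrderOK)
include hcard

/-- The first stabiliser is generated by its known words, so its fixed states are the first four. -/
theorem fixed_of_normalising {a : P0} (ha : ∀ p, p ∈ stabP 1 → a⁻¹ * p * a ∈ stabP 1) :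
    ((psi a ⟨0, by norm_num⟩ : Fin 1408) : ℕ) < 4 := by
  let K : Subgroup P0 := Subgroup.closure {g | ∃ w ∈ firstGens, g = (w.map L).prod}
  have hKle : K ≤ stabP 1 := by
    rw [Subgroup.closure_le]
    rintro _ ⟨w, hw, rfl⟩
    exact gens_mem hw
  have hK : K = stabP 1 := by
    refine Subgroup.eq_of_le_of_card_ge hKle ?_
    obtain ⟨hlt, hok, hprod⟩ := first_gens
    have h := HNCoset.orbitProd_le K hok
      (fun w hw => HNCoset.isN_iff.1 (List.all_eq_true.1 hlt w hw))
      (fun w hw => Subgroup.subset_closure ⟨w, hw, rfl⟩)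
    rw [hprod] at h
    rw [card_stabP hcard (by norm_num), show stabOrders.getD 1 0 = 126000 from rfl]
    exact le_trans (Nat.le_mul_of_pos_right _ Nat.card_pos) h
  let S : Subgroup P0 := (MulAction.stabilizer (Equiv.Perm (Fin 1408)) (⟨0, by norm_num⟩ : Fin 1408)).comap psi
  have hS : stabP 1 ≤ S := by
    rw [← hK, Subgroup.closure_le]
    rintro _ ⟨w, hw, rfl⟩
    show psi (w.map L).prod • _ = _
    refine Fin.ext ?_
    rw [Equiv.Perm.smul_def, psi_prod (HNCoset.isN_iff.1 (List.all_eq_true.1 first_gens.1 w hw))]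
    have h := forallLt_elim fixed_states (show 0 < 1408 by norm_num)
    rw [beq_iff_eq] at h
    exact Nat.eq_of_beq_eq_true (List.all_eq_true.1 (h.symm.trans (by rfl)) w hw)
  have h := forallLt_elim fixed_states (psi a ⟨0, by norm_num⟩).isLt
  rw [beq_iff_eq] at h
  have hall : firstGens.all (fun w => Nat.beq (sWord w (psi a ⟨0, by norm_num⟩ : Fin 1408))
      (psi a ⟨0, by norm_num⟩ : Fin 1408)) = true := by
    rw [List.all_eq_true]
    intro w hw
    rw [Nat.beq_eq, ← psi_prod (HNCoset.isN_iff.1 (List.all_eq_true.1 first_gens.1 w hw)), ← Equiv.Perm.mul_apply,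
      ← map_mul]
    have hm := hS (ha _ (gens_mem hw))
    have e : psi (a⁻¹ * (w.map L).prod * a) ⟨0, by norm_num⟩ = ⟨0, by norm_num⟩ := hm
    congr 1
    conv_rhs => rw [← e]
    rw [← Equiv.Perm.mul_apply, ← map_mul]
    congr 2
    group
  rw [hall] at h
  simpa using h

/-- The image of the element of order five is a power of it. -/
theorem image_T {α : MulAut Spor.HN} (hx : α X = X) (hy : α Y = Y) (hz : α Z = Z) : ∃ e, 1 ≤ e ∧ e ≤ 4 ∧ α T = T ^ e := by
  have hfix : ∀ p : P0, α (toHN p) = toHN p := by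
    have h : α.toMonoidHom.comp toHN = toHN := by
      refine MonoidHom.eq_of_eqOn_dense L_closure ?_
      rintro _ ⟨k, hk, rfl⟩
      simp only [List.mem_cons, List.not_mem_nil, or_false] at hk
      rcases hk with rfl | rfl | rfl <;> rw [MonoidHom.comp_apply]
      · rw [toHN_x]; exact hx
      · rw [toHN_y]; exact hy
      · rw [toHN_z]; exact hz
    exact fun p => DFunLike.congr_fun h p
  have hN : ∀ g, α g ∈ N0 ↔ g ∈ N0 := fun g => by
    constructor
    · intro h
      refine mem_N0_of_commute ?_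
      have := (commute_c h).map α.symm.toMonoidHom
      simpa [(α.symm_apply_eq).2 (hfix c).symm] using this
    · rintro ⟨p, rfl⟩
      exact ⟨p, (hfix p).symm⟩
  set s := α T with hs
  obtain ⟨k, hk, a, hq⟩ := exists_point ((s⁻¹ : Spor.HN) : Spor.HN ⧸ N0)
  have hst : ∀ p : P0, p ∈ stabP 1 ↔ a⁻¹ * p * a ∈ stabP k := by
    intro p
    rw [mem_stabP_one, ← hN, map_mul, map_mul, map_inv, hfix, ← hs, ← mem_stabP_conj, ← hq,
      MulAction.Quotient.smul_coe, smul_eq_mul, QuotientGroup.eq, mul_inv_rev, inv_inv,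
      show s * (toHN p)⁻¹ * s⁻¹ = (s * toHN p * s⁻¹)⁻¹ by group, inv_mem_iff]
  have hk1 : k = 1 := by
    have hcardk : Nat.card (stabP 1) = Nat.card (stabP k) := Nat.card_congr
      { toFun := fun p => ⟨a⁻¹ * p.1 * a, (hst p.1).1 p.2⟩
        invFun := fun p => ⟨a * p.1 * a⁻¹, (hst _).2 (by
          rw [show a⁻¹ * (a * p.1 * a⁻¹) * a = p.1 by group]; exact p.2)⟩
        left_inv := fun p => Subtype.ext (by group)
        right_inv := fun p => Subtype.ext (by group) }
    rw [card_stabP hcard hk, card_stabP hcard (by norm_num), show stabOrders.getD 1 0 = 126000 from rfl] at hcardk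
    have h := forallLt_elim orders_check hk
    simp only [Bool.and_eq_true, Bool.or_eq_true, Nat.beq_eq, Bool.not_eq_true', ← hcardk] at h
    rcases h.2 with h | h
    · exact h
    · simp at h
  subst hk1
  obtain ⟨m, hm, hma⟩ := exists_word a
  obtain ⟨c', b, hc', hb, hev, hs0⟩ := HNCoset.decomp' hm (c := 0) (by norm_num) (b := []) rfl
  rw [HNCoset.repW_zero, List.nil_append, List.append_nil] at hev
  obtain ⟨h1, h4⟩ := HNCoset.expWord_bound hb
  have hlt := fixed_of_normalising hcard (a := a) fun p hp => (hst p).1 hp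
  rw [← hma, psi_prod (HNCoset.isN_iff.1 hm)] at hlt
  have hc0 : c' = 0 := by
    have : sWord m 0 = 4 * c' + (expWord b - 1) := hs0
    simp only at hlt
    omega
  rw [hc0, HNCoset.repW_zero, List.nil_append] at hev
  refine ⟨expWord b, h1, h4, ?_⟩
  have hbN := HNCoset.ev_mem (HNCoset.isN_of_lt_four hb)
  have hT5 : T ^ 5 = 1 := HNMult.big_rels.r11
  have hn : s * (T ^ expWord b)⁻¹ ∈ N0 := by
    rw [HNCoset.pt, MulAction.Quotient.smul_coe, smul_eq_mul, QuotientGroup.eq, show W 1 = [6] from rfl,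
      HNCoset.ev_cons, HNCoset.ev_nil, mul_one, HNCoset.gl_six, inv_inv, ← hma, ← HNCoset.ev_of_isN hm, hev] at hq
    have e : HNCoset.ev b * T⁻¹ = (T ^ expWord b)⁻¹ * HNCoset.ev b := by
      have hinv : ∀ j : ℕ, (T ^ j)⁻¹ = T ^ (4 * j) := fun j => inv_eq_of_mul_eq_one_right (by
        rw [← pow_add, show j + 4 * j = 5 * j by omega, pow_mul, hT5, one_pow])
      have h := HNCoset.ev_mul_T hb 4
      rw [show T⁻¹ = T ^ 4 by simpa using hinv 1, hinv]
      exact h
    rw [e, ← mul_assoc] at hq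
    exact (Subgroup.mul_mem_cancel_right N0 hbN).1 hq
  obtain ⟨w, hw⟩ := hn
  -- the central involution inverts both elements
  set C := toHN c with hC
  have hinvT : ∀ j : ℕ, C * T ^ j * C⁻¹ = (T ^ j)⁻¹ := fun j => by
    rw [← conj_pow, c_conj_T, ← pow_mul]
    exact (inv_eq_of_mul_eq_one_right (by
      rw [← pow_add, show j + 4 * j = 5 * j by omega, pow_mul, hT5, one_pow])).symm
  have hinvs : C * s * C⁻¹ = s⁻¹ := by
    have h := congrArg α (hinvT 1)
    rw [pow_one, map_mul, map_mul, map_inv, map_inv, hC, hfix, ← hs] at h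
    exact h
  set P := T ^ expWord b with hP
  have hsn : s = toHN w * P := by rw [hw]; group
  have hcomm : Commute C (toHN w) := (commute_c (g := toHN w) ⟨w, rfl⟩).symm
  have e1 : toHN w * P⁻¹ = P⁻¹ * (toHN w)⁻¹ := by
    have h := hinvs
    rw [hsn, show C * (toHN w * P) * C⁻¹ = (C * toHN w * C⁻¹) * (C * P * C⁻¹) by group, hcomm.eq,
      mul_inv_cancel_right, hinvT, mul_inv_rev] at h
    exact h
  have e2 : P * toHN w * P⁻¹ = (toHN w)⁻¹ := by rw [mul_assoc, e1, mul_inv_cancel_left]
  have hsq : s ^ 2 = P ^ 2 := by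
    rw [hsn, pow_two, pow_two, show toHN w * P * (toHN w * P) = toHN w * (P * toHN w * P⁻¹) * (P * P) by group, e2,
      mul_inv_cancel, one_mul]
  have hs5 : s ^ 5 = 1 := by rw [hs, ← map_pow, hT5, map_one]
  have hP5 : P ^ 5 = 1 := by rw [hP, ← pow_mul, mul_comm, pow_mul, hT5, one_pow]
  calc s = s ^ 5 * s := by rw [hs5, one_mul]
    _ = (s ^ 2) ^ 3 := by rw [← pow_succ, ← pow_mul]
    _ = P ^ 5 * P := by rw [hsq, ← pow_mul, ← pow_succ]
    _ = P := by rw [hP5, one_mul]

omit hcard in
/-- The exponent is one or four. -/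
theorem image_T_cases {α : MulAut Spor.HN} (hz : α Z = Z) {e : ℕ} (h1 : 1 ≤ e) (h4 : e ≤ 4)
    (he : α T = T ^ e) : e = 1 ∨ e = 4 := by
  have h : (Z * T ^ e) ^ 3 = 1 := by
    have h := congrArg α HNMult.big_rels.r14
    rw [map_pow, map_mul, map_one] at h
    rw [← he, ← hz]
    exact h
  have hZ : HNCoset.gl 4 = Z := HNCoset.gl_z
  interval_cases e
  · exact Or.inl rfl
  · exfalso
    refine ev_ne_one (u := [4, 6, 6, 4, 6, 6, 4, 6, 6]) (by simp) rep_two_check ?_
    simp only [HNCoset.ev_cons, HNCoset.ev_nil, mul_one, hZ, HNCoset.gl_six]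
    simpa [pow_succ, mul_assoc] using h
  · exfalso
    refine ev_ne_one (u := [4, 6, 6, 6, 4, 6, 6, 6, 4, 6, 6, 6]) (by simp) rep_three_check ?_
    simp only [HNCoset.ev_cons, HNCoset.ev_nil, mul_one, hZ, HNCoset.gl_six]
    simpa [pow_succ, mul_assoc] using h
  · exact Or.inr rfl

end CfsgLib.Sporadic.HNOut
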