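import Cfsg.Agent.Lib.Sporadic.HNOut.Normalise
import Cfsg.Agent.Lib.Sporadic.HNOut.FixT

/-!
# The outer automorphism group has order two (owner: helper9)
-/

set_option autoImplicit false
set_option maxRecDepth 20000

namespace CfsgLib.Sporadic.HNOut

open Cfsg CfsgLib.Sporadic CfsgLib.Sporadic.HNGroup

variable (hcard : OrderOK)
include hcard

/-- An automorphism fixing the three generators is inner. -/
theorem inner_of_fix {α : MulAut Spor.HN} (hx : α X = X) (hy : α Y = Y) (hz : α Z = Z) :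
    ∃ g, α = MulAut.conj g := by
  obtain ⟨e, h1, h4, he⟩ := image_T hcard hx hy hz
  rcases image_T_cases hz h1 h4 he with rfl | rfl
  · refine ⟨1, MulEquiv.toMonoidHom_injective (hom_ext ?_ ?_ ?_ ?_)⟩ <;> simp [hx, hy, hz, he]
  · refine ⟨toHN c, MulEquiv.toMonoidHom_injective (hom_ext ?_ ?_ ?_ ?_)⟩ <;>
      simp only [MulEquiv.coe_toMonoidHom, MulAut.conj_apply]
    · rw [hx, (commute_c mem_N0_gens.1).symm.eq, mul_inv_cancel_right]
    · rw [hy, (commute_c mem_N0_gens.2.1).symm.eq, mul_inv_cancel_right]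
    · rw [hz, (commute_c mem_N0_gens.2.2).symm.eq, mul_inv_cancel_right]
    · rw [he, c_conj_T]

/-- The outer automorphism group has order two. -/
theorem card_out : Nat.card (Cfsg.Out Spor.HN) = 2 := by
  obtain ⟨φ, φx, φy, φz, -⟩ := exists_phi
  have hφc : φ (toHN c) = toHN c := by rw [c_eq, map_pow, φx]
  show Nat.card (MulAut Spor.HN ⧸ Cfsg.Inn Spor.HN) = 2
  rw [Nat.card_eq_two_iff]
  refine ⟨((1 : MulAut Spor.HN) : MulAut Spor.HN ⧸ Cfsg.Inn Spor.HN), (φ : MulAut Spor.HN ⧸ Cfsg.Inn Spor.HN),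
    fun h => ?_, Set.eq_univ_of_forall fun u => ?_⟩
  · rw [QuotientGroup.eq, inv_one, one_mul] at h
    obtain ⟨g, hg⟩ := h
    exact phi_not_inner φx φy φz g hg.symm
  obtain ⟨α, rfl⟩ := QuotientGroup.mk_surjective u
  obtain ⟨g1, hg1⟩ := exists_fix_c hcard α
  obtain ⟨g2, hX, hY, hZ⟩ := exists_fix_xyz (β := MulAut.conj g1 * α) hg1
  set β : MulAut Spor.HN := MulAut.conj g2 * (MulAut.conj g1 * α) with hβ
  have hcls : (α : MulAut Spor.HN ⧸ Cfsg.Inn Spor.HN) = (β : MulAut Spor.HN ⧸ Cfsg.Inn Spor.HN) := by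
    rw [hβ, QuotientGroup.mk_mul, QuotientGroup.mk_mul,
      (QuotientGroup.eq_one_iff (N := Cfsg.Inn Spor.HN) (MulAut.conj g2)).2 ⟨g2, rfl⟩,
      (QuotientGroup.eq_one_iff (N := Cfsg.Inn Spor.HN) (MulAut.conj g1)).2 ⟨g1, rfl⟩, one_mul, one_mul]
  rw [hcls, Set.mem_insert_iff, Set.mem_singleton_iff]
  rcases hZ with hZ | hZ
  · left
    obtain ⟨g, hg⟩ := inner_of_fix hcard (α := β) hX hY hZ
    exact (QuotientGroup.eq_one_iff β).2 ⟨g, hg.symm⟩
  · right
    have hX' : (φ⁻¹ * β) X = X := by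
      rw [MulAut.mul_apply, show β X = X from hX]
      exact φ.symm_apply_eq.2 φx.symm
    have hY' : (φ⁻¹ * β) Y = Y := by
      rw [MulAut.mul_apply, show β Y = Y from hY]
      exact φ.symm_apply_eq.2 φy.symm
    have hZ' : (φ⁻¹ * β) Z = Z := by
      rw [MulAut.mul_apply, show β Z = toHN c * Z from hZ]
      exact φ.symm_apply_eq.2 φz.symm
    obtain ⟨g, hg⟩ := inner_of_fix hcard hX' hY' hZ'
    refine (QuotientGroup.eq.2 ?_).symm
    exact ⟨g, hg.symm⟩

end CfsgLib.Sporadic.HNOut
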