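import Cfsg.Agent.Lib.Sporadic.HNOut.Outer
import Cfsg.Agent.Lib.Sporadic.HsOut
import Cfsg.Agent.Lib.Schur.Perfect

/-!
# Automorphisms fixing the central involution, up to inner ones (owner: helper9)
-/

set_option autoImplicit false
set_option maxRecDepth 20000

namespace CfsgLib.Sporadic.HNOut

open Cfsg CfsgLib.Sporadic CfsgLib.Sporadic.HNGroup
open CfsgLib.Sporadic.HNCoset (N0)
open CfsgLib.Sporadic.HsMult (act act_injective)

/-- With an outer automorphism group of order two one outer automorphism is enough. -/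
theorem exists_conj_of_out_two {A B : Type*} [Group A] [Group B] (e : A ≃* B)
    (h : Nat.card (Cfsg.Out A) = 2) (σ : MulAut B) (hσ : ∀ g, σ ≠ MulAut.conj g) (γ : MulAut B) :
    ∃ g : B, γ = MulAut.conj g ∨ γ = MulAut.conj g * σ := by
  have hconj : ∀ (u : MulAut B), (∃ a, MulAut.congr e.symm u = MulAut.conj a) → ∃ g, u = MulAut.conj g := by
    rintro u ⟨a, ha⟩
    refine ⟨e a, MulEquiv.ext fun b => ?_⟩
    have := DFunLike.congr_fun ha (e.symm b)
    simp only [MulAut.congr, MulAut.conj_apply] at this ⊢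
    have h' := congrArg e this
    simpa using h'
  have hidx : (Cfsg.Inn A).index = 2 := h
  let ι : MulAut B ≃* MulAut A := MulAut.congr e.symm
  have hs : ι σ ∉ Cfsg.Inn A := fun ⟨a, ha⟩ => by
    obtain ⟨g, hg⟩ := hconj σ ⟨a, ha.symm⟩
    exact hσ g hg
  by_cases hγ : ι γ ∈ Cfsg.Inn A
  · obtain ⟨a, ha⟩ := hγ
    obtain ⟨g, hg⟩ := hconj γ ⟨a, ha.symm⟩
    exact ⟨g, Or.inl hg⟩
  · have hmem : ι γ * (ι σ)⁻¹ ∈ Cfsg.Inn A := by
      rw [Subgroup.mul_mem_iff_of_index_two hidx, inv_mem_iff]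
      exact iff_of_false hγ hs
    rw [← map_inv, ← map_mul] at hmem
    obtain ⟨a, ha⟩ := hmem
    obtain ⟨g, hg⟩ := hconj _ ⟨a, ha.symm⟩
    exact ⟨g, Or.inr (by rw [← hg, inv_mul_cancel_right])⟩

/-- An automorphism of the small group on the derived subgroup. -/
def onQ (θ : MulAut P0) : ↥Q →* ↥Q where
  toFun q := ⟨θ q.1, mem_of θ q.2⟩
  map_one' := Subtype.ext (map_one θ)
  map_mul' a b := Subtype.ext (map_mul θ a.1 b.1)
where
  mem_of (θ : MulAut P0) {q : P0} (hq : q ∈ Q) : θ q ∈ Q := by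
    have hle : (⊤ : Subgroup P0) = ⊤ ∧ Q ≤ Q.comap θ.toMonoidHom := ⟨rfl, by
      conv_lhs => rw [Q, commutator_def]
      rw [Subgroup.commutator_le]
      intro a _ b _
      rw [Subgroup.mem_comap, map_commutatorElement]
      exact Subgroup.commutator_mem_commutator (Subgroup.mem_top _) (Subgroup.mem_top _)⟩
    exact hle.2 hq

theorem onQ_surjective (θ : MulAut P0) : Function.Surjective (onQ θ) := fun q =>
  ⟨onQ θ⁻¹ q, Subtype.ext (θ.apply_symm_apply q.1)⟩

theorem ker_le_onQ {θ : MulAut P0} (hc : θ c = c) : toSimple.ker ≤ (toSimple.comp (onQ θ)).ker := by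
  intro q hq
  rw [MonoidHom.mem_ker, MonoidHom.comp_apply, ← MonoidHom.mem_ker, ker_toSimple]
  rw [ker_toSimple] at hq
  have hz : q ∈ Subgroup.center ↥Q := ker_central hq
  rw [← center_Q, Subgroup.mem_center_iff]
  intro r
  obtain ⟨r', rfl⟩ := onQ_surjective θ r
  rw [← map_mul, ← map_mul, Subgroup.mem_center_iff.1 hz r']

/-- The automorphism induced on the simple group. -/
theorem exists_induced {θ : MulAut P0} (hc : θ c = c) :
    ∃ γ : MulAut ↥act.range, ∀ q, γ (toSimple q) = toSimple (onQ θ q) := by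
  let f := toSimple.liftOfSurjective toSimple_surjective ⟨toSimple.comp (onQ θ), ker_le_onQ hc⟩
  have hf : ∀ q, f (toSimple q) = toSimple (onQ θ q) := fun q =>
    MonoidHom.liftOfRightInverse_comp_apply _ _ (Function.rightInverse_surjInv toSimple_surjective)
      ⟨toSimple.comp (onQ θ), ker_le_onQ hc⟩ q
  have hs : Function.Surjective f := fun r => by
    obtain ⟨q, rfl⟩ := toSimple_surjective r
    obtain ⟨q', rfl⟩ := onQ_surjective θ q
    exact ⟨toSimple q', hf q'⟩
  haveI : Finite ↥act.range := Nat.finite_of_card_ne_zero (by rw [card_range_act]; norm_num)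
  exact ⟨MulEquiv.ofBijective f (hs.bijective_of_finite), hf⟩

/-- Automorphisms agreeing on the simple group agree on the derived subgroup. -/
theorem onQ_ext {θ θ' : MulAut P0} (h : ∀ q, toSimple (onQ θ q) = toSimple (onQ θ' q)) :
    ∀ q ∈ Q, θ q = θ' q := by
  have e := CfsgLib.Schur.hom_ext_of_perfect perfect_Q toSimple (by rw [ker_toSimple]; exact ker_central)
    (η₁ := onQ θ) (η₂ := onQ θ') (MonoidHom.ext h)
  intro q hq
  have h' := congrArg Subtype.val (DFunLike.congr_fun e (⟨q, hq⟩ : ↥Q))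
  exact h'

theorem c_conj (n : P0) : MulAut.conj n c = c := by
  rw [MulAut.conj_apply, (Subgroup.mem_center_iff.1 c_central n), mul_inv_cancel_right]

/-- An automorphism fixing the central involution is a conjugation on the derived subgroup. -/
theorem exists_conj_on_Q {θ : MulAut P0} (hc : θ c = c) : ∃ n : P0, ∀ q ∈ Q, θ q = n * q * n⁻¹ := by
  obtain ⟨γ, hγ⟩ := exists_induced hc
  obtain ⟨σ, hσ⟩ := exists_induced (c_conj (L 4))
  have houter : ∀ r, σ ≠ MulAut.conj r := by
    intro r hr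
    obtain ⟨q0, rfl⟩ := toSimple_surjective r
    have h : ∀ q, toSimple (onQ (MulAut.conj (L 4)) q) = toSimple (onQ (MulAut.conj (q0 : P0)) q) := fun q => by
      rw [← hσ, hr, MulAut.conj_apply, ← map_inv, ← map_mul, ← map_mul]
      rfl
    have h' := onQ_ext h
    rcases eq_of_centralises (n := (q0 : P0)⁻¹ * L 4) (fun q hq => by
      have e := h' q hq
      simp only [MulAut.conj_apply] at e
      show _ * q = q * _
      calc (q0 : P0)⁻¹ * L 4 * q = (q0 : P0)⁻¹ * (L 4 * q * (L 4)⁻¹) * L 4 := by group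
        _ = q * ((q0 : P0)⁻¹ * L 4) := by rw [e]; group) with e | e
    · refine z_not_mem_Q ?_
      rw [← (inv_mul_eq_one.1 e)]
      exact q0.2
    · refine z_not_mem_Q ?_
      rw [inv_mul_eq_iff_eq_mul.1 e]
      exact mul_mem q0.2 c_mem_Q
  let e : HS0 ≃* ↥act.range := MonoidHom.ofInjective act_injective
  obtain ⟨r, hr⟩ := exists_conj_of_out_two e HsOut.card_out σ houter γ
  obtain ⟨q0, rfl⟩ := toSimple_surjective r
  rcases hr with hr | hr
  · refine ⟨q0.1, fun q hq => ?_⟩
    have h := onQ_ext (θ := θ) (θ' := MulAut.conj q0.1) (fun q => by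
      rw [← hγ, hr, MulAut.conj_apply, ← map_inv, ← map_mul, ← map_mul]
      rfl) q hq
    rwa [MulAut.conj_apply] at h
  · refine ⟨q0.1 * L 4, fun q hq => ?_⟩
    have h := onQ_ext (θ := θ) (θ' := MulAut.conj (q0.1 * L 4)) (fun q => by
      rw [← hγ, hr, MulAut.mul_apply, hσ, MulAut.conj_apply, ← map_inv, ← map_mul, ← map_mul]
      congr 1
      refine Subtype.ext ?_
      show (q0 : P0) * MulAut.conj (L 4) q.1 * (q0 : P0)⁻¹ = MulAut.conj ((q0 : P0) * L 4) q.1
      simp only [MulAut.conj_apply, mul_inv_rev, mul_assoc]) q hq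
    rwa [MulAut.conj_apply] at h

/-- An automorphism fixing the central involution restricts to the small group. -/
theorem exists_restrict {β : MulAut Spor.HN} (hc : β (toHN c) = toHN c) :
    ∃ θ : MulAut P0, θ c = c ∧ ∀ a, β (toHN a) = toHN (θ a) := by
  have hmem : ∀ a : P0, β (toHN a) ∈ N0 := fun a => mem_N0_of_commute (by
    rw [← hc]; exact (commute_c (g := toHN a) ⟨a, rfl⟩).map β.toMonoidHom)
  let e : P0 ≃* ↥N0 := MonoidHom.ofInjective toHN_injective
  let f : P0 →* P0 := e.symm.toMonoidHom.comp ((β.toMonoidHom.comp toHN).codRestrict N0 hmem)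
  have hf : ∀ a, toHN (f a) = β (toHN a) := fun a => by
    show ((e (e.symm ⟨β (toHN a), hmem a⟩) : ↥N0) : Spor.HN) = _
    rw [e.apply_symm_apply]
  have hinj : Function.Injective f := fun a b h => toHN_injective (β.injective (by rw [← hf, ← hf, h]))
  exact ⟨MulEquiv.ofBijective f ⟨hinj, Finite.injective_iff_surjective.1 hinj⟩,
    toHN_injective ((hf c).trans hc), fun a => (hf a).symm⟩

/-- Up to inner automorphisms the three generators are fixed or the last one is twisted. -/
theorem exists_fix_xyz {β : MulAut Spor.HN} (hc : β (toHN c) = toHN c) :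
    ∃ g : Spor.HN, MulAut.conj g (β X) = X ∧ MulAut.conj g (β Y) = Y ∧
      (MulAut.conj g (β Z) = Z ∨ MulAut.conj g (β Z) = toHN c * Z) := by
  obtain ⟨θ, hθc, hθ⟩ := exists_restrict hc
  obtain ⟨n, hn⟩ := exists_conj_on_Q hθc
  set θ' : MulAut P0 := MulAut.conj n⁻¹ * θ with hθ'
  have hfix : ∀ q ∈ Q, θ' q = q := fun q hq => by
    rw [hθ', MulAut.mul_apply, hn q hq, MulAut.conj_apply]
    group
  have himg : ∀ a, MulAut.conj (toHN n⁻¹) (β (toHN a)) = toHN (θ' a) := fun a => by
    rw [hθ, hθ', MulAut.mul_apply, MulAut.conj_apply, MulAut.conj_apply, map_mul, map_mul, map_inv toHN n⁻¹]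
  refine ⟨toHN n⁻¹, ?_, ?_, ?_⟩
  · rw [X, ← toHN_x, himg, hfix _ L_mem_Q.1]
  · rw [Y, ← toHN_y, himg, hfix _ L_mem_Q.2]
  · rw [Z, ← toHN_z, himg, ← map_mul]
    have hcent : ∀ q ∈ Q, Commute ((L 4)⁻¹ * θ' (L 4)) q := fun q hq => by
      have h1 := hfix _ ((inferInstance : Q.Normal).conj_mem q hq (L 4))
      rw [map_mul, map_mul, map_inv, hfix q hq] at h1
      show _ * q = q * _
      calc (L 4)⁻¹ * θ' (L 4) * q = (L 4)⁻¹ * (θ' (L 4) * q * (θ' (L 4))⁻¹) * θ' (L 4) := by group
        _ = q * ((L 4)⁻¹ * θ' (L 4)) := by rw [h1]; group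
    rcases eq_of_centralises hcent with e | e
    · exact Or.inl (congrArg toHN (inv_mul_eq_one.1 e).symm)
    · refine Or.inr (congrArg toHN ?_)
      rw [inv_mul_eq_iff_eq_mul.1 e, Subgroup.mem_center_iff.1 c_central (L 4)]

end CfsgLib.Sporadic.HNOut
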