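import Cfsg.Agent.Lib.Sporadic.HNOut.Centralizer
import Cfsg.Agent.Lib.Sporadic.HNOut.Eleven

/-!
# The points of the presented Harada–Norton group when its order is known (owner: helper9)
-/

set_option autoImplicit false
set_option maxRecDepth 20000

namespace CfsgLib.Sporadic.HNOut

open Cfsg CfsgLib.Sporadic CfsgLib.Sporadic.HNGroup
open CfsgLib.Sporadic.HNCoset (N0 W ev stabP toPt stabOrders)

/-- The order that the counting needs. -/
def OrderOK : Prop := Nat.card Spor.HN = 273030912000000

theorem orders_check : forallLt 9 (fun k => Nat.beq (177408000 / stabOrders.getD k 0 * stabOrders.getD k 0) 177408000 &&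
    (Nat.beq k 0 || !(Nat.beq (stabOrders.getD k 0 % 11) 0)) &&
    (Nat.beq k 1 || !(Nat.beq (stabOrders.getD k 0) 126000))) = true := by decide +kernel

variable (hcard : OrderOK)
include hcard

theorem index_N0 : N0.index = 1539000 ∧ Nat.card P0 = 177408000 := by
  have h1 := HNCoset.index_le
  have h2 : Nat.card P0 ≤ 177408000 := HNCoset.card_P0_le
  have h3 := N0.index_mul_card
  have h4 : Nat.card N0 = Nat.card P0 :=
    Nat.card_congr (MonoidHom.ofInjective toHN_injective).toEquiv.symm
  rw [hcard, h4] at h3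
  constructor
  · nlinarith
  · nlinarith

theorem index_stabP {k : ℕ} (hk : k < 9) : (stabP k).index = 177408000 / stabOrders.getD k 0 := by
  have h1 : ∑ i : Fin 9, (stabP i).index = ∑ i : Fin 9, 177408000 / stabOrders.getD i 0 := by
    refine le_antisymm (Finset.sum_le_sum fun i _ => HNCoset.stabP_index i.isLt) ?_
    calc ∑ i : Fin 9, 177408000 / stabOrders.getD i 0 = 1539000 := by rw [← List.sum_ofFn]; decide +kernel
      _ = N0.index := (index_N0 hcard).1.symm
      _ = Nat.card (Spor.HN ⧸ N0) := rfl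
      _ ≤ Nat.card (Σ i : Fin 9, P0 ⧸ stabP i) := Nat.card_le_card_of_surjective _ HNCoset.toPt_surjective
      _ = ∑ i : Fin 9, (stabP i).index := by rw [Nat.card_sigma]; rfl
  exact (Finset.sum_eq_sum_iff_of_le fun (i : Fin 9) _ => HNCoset.stabP_index i.isLt).1 h1 ⟨k, hk⟩ (Finset.mem_univ _)

theorem card_stabP {k : ℕ} (hk : k < 9) : Nat.card (stabP k) = stabOrders.getD k 0 := by
  have h := (stabP k).index_mul_card
  rw [index_stabP hcard hk, (index_N0 hcard).2] at h
  have hd := forallLt_elim orders_check hk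
  simp only [Bool.and_eq_true, Nat.beq_eq] at hd
  have hpos : 0 < 177408000 / stabOrders.getD k 0 := by
    rcases Nat.eq_zero_or_pos (177408000 / stabOrders.getD k 0) with e | e
    · rw [e, zero_mul] at h; omega
    · exact e
  exact Nat.eq_of_mul_eq_mul_left hpos (h.trans hd.1.1.symm)

omit hcard in
/-- The stabiliser of a moved point is conjugate. -/
theorem mem_stabP_conj {k : ℕ} {a p : P0} :
    toHN p • toHN a • HNCoset.pt k = toHN a • HNCoset.pt k ↔ a⁻¹ * p * a ∈ stabP k := by
  show _ ↔ toHN (a⁻¹ * p * a) • HNCoset.pt k = HNCoset.pt k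
  rw [map_mul, map_mul, map_inv, mul_smul, mul_smul, inv_smul_eq_iff]

omit hcard in
/-- Every point is a moved representative. -/
theorem exists_point (q : Spor.HN ⧸ N0) : ∃ k < 9, ∃ a : P0, q = toHN a • HNCoset.pt k := by
  obtain ⟨⟨k, x⟩, rfl⟩ := HNCoset.toPt_surjective q
  obtain ⟨a, rfl⟩ := QuotientGroup.mk_surjective x
  exact ⟨k, k.isLt, a, rfl⟩

/-- The element of order eleven fixes one point only. -/
theorem eleven_fixes {q : Spor.HN ⧸ N0} (h : toHN eleven • q = q) : q = ((1 : Spor.HN) : Spor.HN ⧸ N0) := by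
  obtain ⟨k, hk, a, rfl⟩ := exists_point q
  have hm := mem_stabP_conj.1 h
  have hord : orderOf (⟨a⁻¹ * eleven * a, hm⟩ : stabP k) = 11 := by
    rw [← orderOf_injective (stabP k).subtype (stabP k).subtype_injective, ← orderOf_eleven]
    show orderOf (a⁻¹ * eleven * a) = _
    have e : a⁻¹ * eleven * a = MulAut.conj a⁻¹ eleven := by rw [MulAut.conj_apply, inv_inv]
    rw [e]
    exact orderOf_injective (MulAut.conj a⁻¹).toMonoidHom (MulAut.conj a⁻¹).injective eleven
  have hdiv : 11 ∣ stabOrders.getD k 0 := by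
    rw [← card_stabP hcard hk, ← hord]
    exact orderOf_dvd_natCard _
  have hd := forallLt_elim orders_check hk
  simp only [Bool.and_eq_true, Bool.or_eq_true, Nat.beq_eq, Bool.not_eq_true'] at hd
  obtain rfl : k = 0 := by
    rcases hd.1.2 with h | h
    · exact h
    · exact absurd (Nat.mod_eq_zero_of_dvd hdiv) (by
        intro e; rw [e] at h; simp at h)
  rw [HNCoset.pt, HNCoset.W_zero, HNCoset.ev_nil, inv_one, MulAction.Quotient.smul_coe, smul_eq_mul, mul_one,
    QuotientGroup.eq, mul_one]
  exact inv_mem ⟨a, rfl⟩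

/-- The centraliser of the element of order eleven lies in the subgroup. -/
theorem centralizer_eleven {g : Spor.HN} (h : Commute g (toHN eleven)) : g ∈ N0 := by
  have h0 : toHN eleven • ((1 : Spor.HN) : Spor.HN ⧸ N0) = ((1 : Spor.HN) : Spor.HN ⧸ N0) := by
    rw [MulAction.Quotient.smul_coe, smul_eq_mul, mul_one, QuotientGroup.eq, mul_one]
    exact inv_mem ⟨_, rfl⟩
  have hfix : toHN eleven • (g • ((1 : Spor.HN) : Spor.HN ⧸ N0)) = g • ((1 : Spor.HN) : Spor.HN ⧸ N0) := by
    rw [smul_smul, ← h.eq, mul_smul, h0]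
  have e := eleven_fixes hcard hfix
  rw [MulAction.Quotient.smul_coe, smul_eq_mul, mul_one, QuotientGroup.eq, mul_one] at e
  exact inv_mem_iff.1 e

/-- Every automorphism followed by an inner one fixes the central involution. -/
theorem exists_fix_c (α : MulAut Spor.HN) : ∃ g : Spor.HN, MulAut.conj g (α (toHN c)) = toHN c := by
  haveI : Fact (Nat.Prime 11) := ⟨by norm_num⟩
  haveI := HNCoset.finite_hn
  set E := toHN eleven with hE
  have hEo : orderOf E = 11 := (orderOf_injective toHN toHN_injective eleven).trans orderOf_eleven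
  have hEo' : orderOf (α E) = 11 := (orderOf_injective α.toMonoidHom α.injective E).trans hEo
  have sylow : ∀ u : Spor.HN, orderOf u = 11 → ∃ P : Sylow 11 Spor.HN, (P : Subgroup Spor.HN) = Subgroup.zpowers u := by
    intro u hu
    have hc : Nat.card (Subgroup.zpowers u) = 11 := (Nat.card_zpowers u).trans hu
    have hp : IsPGroup 11 (Subgroup.zpowers u) := IsPGroup.of_card (n := 1) (by rw [hc, pow_one])
    have hi : ¬ 11 ∣ (Subgroup.zpowers u).index := fun hd => by
      have := (Subgroup.zpowers u).index_mul_card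
      rw [hc, show Nat.card Spor.HN = 273030912000000 from hcard] at this
      omega
    exact ⟨hp.toSylow hi, rfl⟩
  obtain ⟨P, hP⟩ := sylow E hEo
  obtain ⟨P', hP'⟩ := sylow (α E) hEo'
  obtain ⟨g, hg⟩ := MulAction.exists_smul_eq Spor.HN P' P
  have hmem : MulAut.conj g (α E) ∈ Subgroup.zpowers E := by
    rw [← hP, ← hg]
    show MulAut.conj g (α E) ∈ ((g • P' : Sylow 11 Spor.HN) : Subgroup Spor.HN)
    rw [Sylow.coe_subgroup_smul, hP']
    exact Subgroup.smul_mem_pointwise_smul _ (MulAut.conj g) _ (Subgroup.mem_zpowers _)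
  refine ⟨g, ?_⟩
  set β : MulAut Spor.HN := MulAut.conj g * α with hβ
  show β (toHN c) = toHN c
  change β E ∈ Subgroup.zpowers E at hmem
  have hβo : orderOf (β E) = 11 := (orderOf_injective β.toMonoidHom β.injective E).trans hEo
  have hzp : Subgroup.zpowers (β E) = Subgroup.zpowers E :=
    Subgroup.eq_of_le_of_card_ge (Subgroup.zpowers_le.2 hmem) (by rw [Nat.card_zpowers, Nat.card_zpowers, hEo, hβo])
  obtain ⟨j, hj⟩ := Subgroup.mem_zpowers_iff.1 (hzp.symm ▸ Subgroup.mem_zpowers E : E ∈ Subgroup.zpowers (β E))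
  have hcomm : Commute (β (toHN c)) E := by
    rw [← hj]
    exact (((commute_c (g := E) ⟨_, rfl⟩).symm).map β.toMonoidHom).zpow_right j
  obtain ⟨i, hi⟩ := centralizer_eleven hcard hcomm
  have hi2 : i * i = 1 := toHN_injective (by
    rw [map_mul, hi, map_one, ← map_mul, ← map_mul, c_sq, map_one, map_one])
  have hie : Commute i eleven := toHN_injective (by rw [map_mul, map_mul, hi]; exact hcomm)
  rcases eq_c_of_commute hi2 hie with rfl | rfl
  · exfalso
    refine c_ne_one (toHN_injective (β.injective ?_))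
    rw [← hi, map_one, map_one]
  · exact hi.symm

end CfsgLib.Sporadic.HNOut
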